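import Groth.Agent.H78.FormalFun.MittagLeffler
import Mathlib.RingTheory.Filtration

/-!
# The kernels of the reductions are small in the adic topology; completion of cohomology
-/

set_option linter.style.haveILetI false

universe u

open CategoryTheory Limits AlgebraicGeometry Opposite TopologicalSpace

namespace Groth.Agent.H84.FormalFun.KerTop

open Groth.Agent.Lib Groth.Agent.H78.Formal.Sections Groth.Agent.Lib.Curves.LES
open Groth.Agent.H78.FormalFun.Basic
open Groth.Agent.H78.FormalFun.Principal (B incl incl_π seq seq_shortExact H_incl)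
open Groth.Agent.H78.Formal.Principal (pr smulMod_mul mem_pow exists_eq)

variable {A : Type u} [CommRing A] {X : Scheme.{u}} [X.Over (Spec (CommRingCat.of A))]

/-- Classes dying on a deep reduction are divisible by a given power of `J`. -/
def K (C : X.Modules → Prop) (J : Ideal A) : Prop :=
  ∀ (M : X.Modules), C M → ∀ p m : ℕ, ∃ n : ℕ, ∀ x : Coh.HH X M p,
    H (A := A) p (_root_.Formal.modPowπ J (n + 1) M) x = 0 →
      x ∈ J ^ m • (⊤ : Submodule A (Coh.HH X M p))

theorem k_bot (C : X.Modules → Prop) : K (A := A) C ⊥ := by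
  intro M _ p m
  obtain ⟨r, hr⟩ := exists_desc (I := (⊥ : Ideal A)) (n := m + 1) (𝟙 M)
    (by rw [← Ideal.zero_eq_bot, zero_pow m.succ_ne_zero]; exact bot_le)
  refine ⟨m, fun x hx => ?_⟩
  have := congrArg (H (A := A) p r) hx
  rw [← H_comp, hr, map_zero] at this
  have hx0 : x = 0 := (LinearMap.congr_fun (mapK_id A M p) x).symm.trans this
  rw [hx0]
  exact zero_mem _

variable {C : X.Modules → Prop} (hC : Good A C) [IsNoetherian X] [IsNoetherianRing A]
include hC

theorem k_step {J : Ideal A} (g : A) (hJ : K C J) : K C (J ⊔ pr g) := by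
  intro M hM p m
  obtain ⟨N, hN⟩ := exists_mono (hC.coh hM) g
  let Q := _root_.Formal.modPow (pr g) (N + m + 1) M
  let φ : Coh.HH X M p →ₗ[A] Coh.HH X Q p := H (A := A) p (_root_.Formal.modPowπ (pr g) (N + m + 1) M)
  haveI : Module.Finite A (Coh.HH X Q p) := hC.qfin (hC.modPow _ _ hM) p
  obtain ⟨e, he⟩ := J.exists_pow_inf_eq_pow_smul (LinearMap.range φ)
  obtain ⟨n, hn⟩ := hJ Q (hC.modPow _ _ hM) p (m + e)
  let q : M ⟶ _root_.Formal.modPow J (n + 1) Q :=
    _root_.Formal.modPowπ (pr g) (N + m + 1) M ≫ _root_.Formal.modPowπ J (n + 1) Q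
  have hq : (J ⊔ pr g) ^ (n + (N + m + 1) + 1) ≤ annHom q := by
    rw [show n + (N + m + 1) + 1 = (n + 1) + (N + m + 1) by omega]
    refine Ideal.sup_pow_add_le_pow_sup_pow.trans (sup_le ?_ ?_)
    · exact (le_annHom_π J (n + 1) Q).trans (annHom_le_comp' _ _)
    · exact (le_annHom_π (pr g) (N + m + 1) M).trans (annHom_le_comp _ _)
  obtain ⟨a, ha⟩ := exists_desc q hq
  refine ⟨n + (N + m + 1), fun x hx => ?_⟩
  have h1 : φ x ∈ J ^ (m + e) • (⊤ : Submodule A (Coh.HH X Q p)) := by
    refine hn (φ x) ?_
    have h2 : H (A := A) p q x = 0 := by rw [← ha, H_comp, hx, map_zero]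
    rwa [H_comp] at h2
  have h3 : φ x ∈ J ^ m • LinearMap.range φ := by
    have h4 := (he (m + e) (Nat.le_add_left e m)).le ⟨h1, x, rfl⟩
    rw [Nat.add_sub_cancel] at h4
    exact Submodule.smul_mono le_rfl inf_le_right h4
  rw [← Submodule.map_top, ← Submodule.map_smul''] at h3
  obtain ⟨x₀, hx₀, hx₀'⟩ := h3
  have h5 : H (A := A) p (seq M g N m).g (x - x₀) = 0 := by
    change φ (x - x₀) = 0
    rw [map_sub, hx₀', sub_self]
  obtain ⟨w, hw⟩ := (exactK₂ A (seq_shortExact M g N m) p (x - x₀)).mp h5
  have h6 : x - x₀ ∈ (pr g) ^ m • (⊤ : Submodule A (Coh.HH X M p)) := by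
    rw [← hw]
    change H (A := A) p (incl M g N m) w ∈ _
    exact (congrArg (· ∈ _) (H_incl p m w)).mpr (Submodule.smul_mem_smul (mem_pow g) trivial)
  rw [← sub_add_cancel x x₀]
  exact add_mem (Submodule.smul_mono (Ideal.pow_right_mono le_sup_right m) le_rfl h6)
    (Submodule.smul_mono (Ideal.pow_right_mono le_sup_left m) le_rfl hx₀)

theorem kernel_small (J : Ideal A) : K C J := by
  obtain ⟨s, rfl⟩ := IsNoetherian.noetherian J
  classical
  induction s using Finset.induction_on with
  | empty => rw [Finset.coe_empty, Submodule.span_empty]; exact k_bot C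
  | insert g s _ ih =>
    rw [Finset.coe_insert, Submodule.span_insert, sup_comm]
    exact k_step hC g ih

omit hC

/-- The compatible family attached to a point of the completion. -/
theorem toHHmodPow_eq_of_mem (I : Ideal A) (M : X.Modules) (p : ℕ) {n : ℕ} {h h' : Coh.HH X M p}
    (hmem : h - h' ∈ I ^ (n + 1) • (⊤ : Submodule A (Coh.HH X M p))) :
    _root_.Formal.toHHmodPow I M p n h = _root_.Formal.toHHmodPow I M p n h' := by
  have hker : I ^ (n + 1) • (⊤ : Submodule A (Coh.HH X M p)) ≤
      LinearMap.ker (H (A := A) p (_root_.Formal.modPowπ I (n + 1) M)) := by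
    refine Submodule.smul_le.2 fun a ha w _ => ?_
    rw [LinearMap.mem_ker, ← H_smulMod, ← H_comp,
      show _root_.Formal.smulMod A M a ≫ _root_.Formal.modPowπ I (n + 1) M = 0 from
        mem_annHom.1 (le_annHom_π I (n + 1) M ha), H_zero]
  have := LinearMap.mem_ker.1 (hker hmem)
  rw [map_sub, sub_eq_zero] at this
  exact this

include hC

/-- The completion of cohomology is the limit of the cohomology of the reductions. -/
theorem exists_equiv (I : Ideal A) {M : X.Modules} (hM : C M) (p : ℕ) :
    ∃ e : AdicCompletion I (Coh.HH X M p) ≃+ _root_.Formal.HHlim I M p,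
      ∀ (x : AdicCompletion I (Coh.HH X M p)) (n : ℕ) (h : Coh.HH X M p),
        AdicCompletion.eval I (Coh.HH X M p) (n + 1) x = Submodule.Quotient.mk h →
          (e x : ∀ n, _root_.Formal.HHmodPow I M p n) n = _root_.Formal.toHHmodPow I M p n h := by
  let P := Coh.HH X M p
  let rep : AdicCompletion I P → ℕ → P := fun x m =>
    (Submodule.mkQ_surjective _ (x.val m)).choose
  have hrep : ∀ x m, Submodule.Quotient.mk (rep x m) = x.val m := fun x m =>
    (Submodule.mkQ_surjective _ (x.val m)).choose_spec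
  have hmem : ∀ (x : AdicCompletion I P) (m n : ℕ), m ≤ n →
      rep x n - rep x m ∈ I ^ m • (⊤ : Submodule A P) := fun x m n hmn => by
    rw [← Submodule.Quotient.eq]
    refine Eq.trans ?_ (hrep x m).symm
    rw [← x.property hmn, ← hrep x n]
    rfl
  let T : AdicCompletion I P → ∀ n, _root_.Formal.HHmodPow I M p n := fun x n =>
    _root_.Formal.toHHmodPow I M p n (rep x (n + 1))
  have hT : ∀ x n h, x.val (n + 1) = Submodule.Quotient.mk h →
      T x n = _root_.Formal.toHHmodPow I M p n h := fun x n h hh =>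
    toHHmodPow_eq_of_mem I M p (by rw [← Submodule.Quotient.eq, hrep, hh])
  have hTc : ∀ x, T x ∈ _root_.Formal.HHlim I M p := fun x n => by
    change _root_.Formal.HHmodPowTrans I M p n (_root_.Formal.toHHmodPow I M p (n + 1) (rep x (n + 1 + 1))) =
      _root_.Formal.toHHmodPow I M p n (rep x (n + 1))
    rw [← toHHmodPow_eq_of_mem I M p (hmem x (n + 1) (n + 1 + 1) (Nat.le_succ _))]
    exact ((_root_.Formal.toHHlim I M p (rep x (n + 1 + 1))).2 n)
  let β : AdicCompletion I P →+ _root_.Formal.HHlim I M p :=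
    { toFun := fun x => ⟨T x, hTc x⟩
      map_zero' := Subtype.ext (funext fun n => by
        change T 0 n = 0
        rw [hT 0 n 0 (AdicCompletion.val_zero_apply I P (n + 1)), map_zero])
      map_add' := fun x y => Subtype.ext (funext fun n => by
        change T (x + y) n = T x n + T y n
        rw [hT (x + y) n (rep x (n + 1) + rep y (n + 1))
          (by rw [Submodule.Quotient.mk_add, hrep, hrep]; rfl), map_add]) }
  have hlevel : ∀ {y : ∀ n, _root_.Formal.HHmodPow I M p n}, y ∈ _root_.Formal.HHlim I M p →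
      ∀ (i j : ℕ) (h : i ≤ j),
        H (A := A) p (Formal2.modPowLE I (Nat.succ_le_succ h) M) (y j) = y i := by
    intro y hy i j hij
    induction hij with
    | refl =>
      rw [H78.FormalFun.MittagLeffler.modPowLE_refl]
      exact LinearMap.congr_fun (mapK_id A _ p) _
    | @step j hij ih =>
      have hfac : _root_.Formal.modPowTrans I (j + 1) M ≫ Formal2.modPowLE I (Nat.succ_le_succ hij) M =
          Formal2.modPowLE I (Nat.succ_le_succ (Nat.le.step hij)) M := by
        rw [← cancel_epi (_root_.Formal.modPowπ I (j + 1 + 1) M), ← Category.assoc,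
          _root_.Formal.modPowπ_trans, Formal2.modPowπ_modPowLE, Formal2.modPowπ_modPowLE]
      rw [← hfac, H_comp]
      exact (congrArg _ (hy j)).trans ih
  have htop : ∀ (i j : ℕ) (h : i ≤ j) (x : P),
      H (A := A) p (Formal2.modPowLE I (Nat.succ_le_succ h) M) (_root_.Formal.toHHmodPow I M p j x) =
        _root_.Formal.toHHmodPow I M p i x := fun i j h x =>
    hlevel (_root_.Formal.toHHlim I M p x).2 i j h
  have hinj : Function.Injective β := by
    refine (injective_iff_map_eq_zero β).2 fun x hx => AdicCompletion.ext fun m => ?_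
    obtain ⟨n, hn⟩ := kernel_small hC I M hM p m
    have h1 : _root_.Formal.toHHmodPow I M p n (rep x (max m (n + 1))) = 0 := by
      rw [toHHmodPow_eq_of_mem I M p (hmem x (n + 1) (max m (n + 1)) (le_max_right _ _))]
      exact congrFun (congrArg Subtype.val hx) n
    rw [← hrep x m, AdicCompletion.val_zero_apply, Submodule.Quotient.mk_eq_zero]
    rw [← sub_sub_cancel (rep x (max m (n + 1))) (rep x m)]
    exact sub_mem (hn _ h1) (hmem x m (max m (n + 1)) (le_max_left _ _))
  have hsurj : Function.Surjective β := by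
    intro y
    have hlift : ∀ i, ∃ h : P, _root_.Formal.toHHmodPow I M p i h = y.1 i := fun i => by
      obtain ⟨n, hin, hn⟩ := H78.FormalFun.MittagLeffler.ml hC I M hM p i
      obtain ⟨h, hh⟩ := hn (y.1 n)
      exact ⟨h, hh.trans (hlevel y.2 i n hin)⟩
    choose g hg using hlift
    choose κ hκ using fun m => kernel_small hC I M hM p m
    let ν : ℕ → ℕ := fun m => (Finset.range (m + 1)).sup κ + m
    have hν : ∀ m, κ m ≤ ν m := fun m =>
      (Finset.le_sup (Finset.self_mem_range_succ m)).trans (Nat.le_add_right _ _)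
    have hνm : Monotone ν := fun a b hab => Nat.add_le_add
      (Finset.sup_mono (Finset.range_mono (Nat.succ_le_succ hab))) hab
    have hmemg : ∀ m j, κ m ≤ j → ∀ h, _root_.Formal.toHHmodPow I M p j h = y.1 j →
        ∀ j', κ m ≤ j' → ∀ h', _root_.Formal.toHHmodPow I M p j' h' = y.1 j' →
        h - h' ∈ I ^ m • (⊤ : Submodule A P) := by
      intro m j hj h hh j' hj' h' hh'
      refine hκ m (h - h') ?_
      change _root_.Formal.toHHmodPow I M p (κ m) (h - h') = 0
      rw [map_sub, ← htop _ _ hj h, ← htop _ _ hj' h', hh, hh', hlevel y.2 _ _ hj, hlevel y.2 _ _ hj',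
        sub_self]
    refine ⟨⟨fun m => Submodule.Quotient.mk (g (ν m)), fun {m n} hmn => ?_⟩, ?_⟩
    · exact (Submodule.Quotient.eq _).2
        (hmemg m _ ((hν m).trans (hνm hmn)) _ (hg _) _ (hν m) _ (hg _))
    · refine Subtype.ext (funext fun i => ?_)
      change T _ i = y.1 i
      rw [hT _ i (g (ν (i + 1))) rfl, ← htop i (ν (i + 1)) ((Nat.le_succ i).trans (Nat.le_add_left _ _)),
        hg]
      exact hlevel y.2 _ _ ((Nat.le_succ i).trans (Nat.le_add_left _ _))
  exact ⟨AddEquiv.ofBijective β ⟨hinj, hsurj⟩, fun x n h hh => hT x n h hh⟩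

end Groth.Agent.H84.FormalFun.KerTop
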