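import Groth.Prelude.Def_Formal
import Groth.Agent.Lib.H3.RpushCoh
import Groth.Agent.Lib.Curves.GlobalSections
import Groth.Agent.Lib.Curves.LES
import Groth.Agent.Lib.StalkLoc.Basic
import Groth.Agent.Lib.Cyc.FP.Stalk
import Groth.Agent.S0030
import Groth.Agent.S0034
import Mathlib.RingTheory.Localization.BaseChange
import Mathlib.RingTheory.Flat.Localization

/-!
# The stalk of a higher direct image is the cohomology over the local scheme
-/

set_option autoImplicit false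
set_option linter.style.haveILetI false
set_option maxHeartbeats 1600000

universe u

open CategoryTheory CategoryTheory.Limits AlgebraicGeometry TopologicalSpace Opposite
open Groth.Agent.Lib Groth.Agent.Lib.ZarCoh.Basic Groth.Agent.Lib.ZarCoh.Compare
open Groth.Agent.Lib.CohDelta

namespace Groth.Agent.H84.FormalFun.Stalk

variable {X Y : Scheme.{u}} (f : X ⟶ Y) (V : Y.Opens)

/-- The preimage of an open as a scheme over the ring of sections of the open. -/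
noncomputable abbrev struct [IsAffine (V : Scheme.{u})] :
    ((f ⁻¹ᵁ V : X.Opens) : Scheme.{u}) ⟶ Spec (CommRingCat.of Γ(Y, V.ι ''ᵁ ⊤)) :=
  (f ∣_ V) ≫ (V : Scheme.{u}).isoSpec.hom

variable {V}

lemma isoSpec_hom_fromSpec [IsAffine (V : Scheme.{u})] (hV : IsAffineOpen V)
    (hV' : IsAffineOpen (V.ι ''ᵁ ⊤)) :
    (V : Scheme.{u}).isoSpec.hom ≫ hV'.fromSpec = V.ι := by
  rw [← hV.map_fromSpec hV' (eqToHom V.ι_image_top).op, Scheme.isoSpec_hom]
  exact (Category.assoc _ _ _).symm.trans hV.toSpecΓ_fromSpec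

lemma isPullback_struct [IsAffine (V : Scheme.{u})] (hV : IsAffineOpen V)
    (hV' : IsAffineOpen (V.ι ''ᵁ ⊤)) :
    IsPullback (f ⁻¹ᵁ V).ι (struct f V) f hV'.fromSpec :=
  (isPullback_morphismRestrict f V).flip.of_iso (Iso.refl _) (Iso.refl _)
    (V : Scheme.{u}).isoSpec (Iso.refl _) (by simp) (by simp [struct]) (by simp)
    ((Category.comp_id _).trans (isoSpec_hom_fromSpec hV hV').symm)

lemma toGlobal_struct [IsAffine (V : Scheme.{u})] (a : Γ(Y, V.ι ''ᵁ ⊤)) :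
    letI : ((f ⁻¹ᵁ V : X.Opens) : Scheme.{u}).Over (Spec (CommRingCat.of Γ(Y, V.ι ''ᵁ ⊤))) :=
      ⟨struct f V⟩
    Coh.toGlobal (((f ⁻¹ᵁ V : X.Opens) : Scheme.{u}) ↘ Spec (CommRingCat.of Γ(Y, V.ι ''ᵁ ⊤))) a =
      Glue.pb (f ∣_ V) a := by
  have h1 : ((f ∣_ V) ≫ (V : Scheme.{u}).isoSpec.hom).appTop =
      (Scheme.ΓSpecIso Γ((V : Scheme.{u}), ⊤)).hom ≫ (f ∣_ V).appTop := by
    rw [Scheme.Hom.comp_appTop, Scheme.isoSpec_hom, Scheme.toSpecΓ_appTop]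
  have h2 : (Scheme.ΓSpecIso Γ((V : Scheme.{u}), ⊤)).inv ≫
      ((f ∣_ V) ≫ (V : Scheme.{u}).isoSpec.hom).appTop = (f ∣_ V).appTop := by
    rw [h1, Iso.inv_hom_id_assoc]
  exact ConcreteCategory.congr_hom h2 a

/-- An isomorphism of modules gives a linear equivalence on sections. -/
noncomputable def secEquiv {M N : Y.Modules} (e : M ≅ N) (U : Y.Opens) :
    Γ(M, U) ≃ₗ[Γ(Y, U)] Γ(N, U) :=
  LinearEquiv.ofBijective
    { toFun := e.hom.app U
      map_add' := map_add _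
      map_smul' := fun r s => Scheme.Modules.Hom.app_smul e.hom r s }
    (ConcreteCategory.bijective_of_isIso (e.hom.app U))

variable [QuasiCompact f] [QuasiSeparated f]

/-- Sections of `Rᵖ⁺¹ f_*` on an affine open. -/
theorem nonempty_syzygy [IsAffine (V : Scheme.{u})] {M : X.Modules}
    (I : InjectiveResolution M) (hM : M.IsQuasicoherent) (p : ℕ) :
    letI : ((f ⁻¹ᵁ V : X.Opens) : Scheme.{u}).Over (Spec (CommRingCat.of Γ(Y, V.ι ''ᵁ ⊤))) :=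
      ⟨struct f V⟩
    Nonempty (Coh.HH ((f ⁻¹ᵁ V : X.Opens) : Scheme.{u}) (M.restrict (f ⁻¹ᵁ V).ι) (p + 1)
      ≃ₗ[Γ(Y, V.ι ''ᵁ ⊤)] Γ(Syzygy.R I f p, V.ι ''ᵁ ⊤)) := by
  let W : Scheme.{u} := ((f ⁻¹ᵁ V : X.Opens) : Scheme.{u})
  letI : W.Over (Spec (CommRingCat.of Γ(Y, V.ι ''ᵁ ⊤))) := ⟨struct f V⟩
  haveI : (Syzygy.Z I 0).IsQuasicoherent :=
    (SheafOfModules.isQuasicoherent X.ringCatSheaf).prop_of_iso (Syzygy.augIso I) hM
  let N : W.Modules := (Syzygy.Z I 0).restrict (f ⁻¹ᵁ V).ι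
  let F := QCohR.cmpV f I p V
  have hbij : Function.Bijective (F.e ⊤) := Glue.bijective_top (f ∣_ V) N F
  let E : Coh.HH W N (p + 1) →+ Γ(Syzygy.R I f p, V.ι ''ᵁ ⊤) :=
    (F.e ⊤).comp (hTop (Coh.toAb N) (p + 1)).toAddMonoidHom
  let L : Coh.HH W N (p + 1) →ₗ[Γ(Y, V.ι ''ᵁ ⊤)] Γ(Syzygy.R I f p, V.ι ''ᵁ ⊤) :=
    { toFun := E
      map_add' := E.map_add
      map_smul' := fun a x => by
        have hx : hTop (Coh.toAb N) (p + 1) (a • x) =
            Loc.mulA N (Glue.pb (f ∣_ V) a) ⊤ (p + 1) (hTop (Coh.toAb N) (p + 1) x) := by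
          rw [Loc.mulA_apply, ← toGlobal_struct f a]
          exact hTop_comp x (CategoryTheory.Abelian.Ext.mk₀ (Coh.smulAb N _)) (add_zero (p + 1))
        refine (congrArg (F.e ⊤) hx).trans ((QCohR.cmpV_smul f I p V a ⊤ _).trans ?_)
        refine congrArg (fun k : Γ(Y, V.ι ''ᵁ ⊤) => k • (E x : Γ(Syzygy.R I f p, V.ι ''ᵁ ⊤))) ?_
        rw [show (homOfLE (V.ι.image_mono le_top : V.ι ''ᵁ ⊤ ≤ V.ι ''ᵁ ⊤)) = 𝟙 _ from rfl, op_id,
          Y.presheaf.map_id]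
        rfl }
  exact ⟨(Curves.LES.isoK _ ((Scheme.Modules.restrictFunctor (f ⁻¹ᵁ V).ι).mapIso
    (Syzygy.augIso I)) (p + 1)).trans
      (LinearEquiv.ofBijective L (hbij.comp (hTop (Coh.toAb N) (p + 1)).bijective))⟩

omit [QuasiCompact f] [QuasiSeparated f] in
/-- Sections of `f_*` on an affine open. -/
theorem nonempty_pushforward [IsAffine (V : Scheme.{u})] (M : X.Modules) :
    letI : ((f ⁻¹ᵁ V : X.Opens) : Scheme.{u}).Over (Spec (CommRingCat.of Γ(Y, V.ι ''ᵁ ⊤))) :=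
      ⟨struct f V⟩
    Nonempty (Coh.HH ((f ⁻¹ᵁ V : X.Opens) : Scheme.{u}) (M.restrict (f ⁻¹ᵁ V).ι) 0
      ≃ₗ[Γ(Y, V.ι ''ᵁ ⊤)] Γ((Scheme.Modules.pushforward f).obj M, V.ι ''ᵁ ⊤)) := by
  let W : Scheme.{u} := ((f ⁻¹ᵁ V : X.Opens) : Scheme.{u})
  letI : W.Over (Spec (CommRingCat.of Γ(Y, V.ι ''ᵁ ⊤))) := ⟨struct f V⟩
  let N : W.Modules := M.restrict (f ⁻¹ᵁ V).ι
  have e : f ⁻¹ᵁ (V.ι ''ᵁ ⊤) = (f ⁻¹ᵁ V).ι ''ᵁ ⊤ := by
    rw [Scheme.Opens.ι_image_top, Scheme.Opens.ι_image_top]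
  let ψ : Γ(M, (f ⁻¹ᵁ V).ι ''ᵁ ⊤) → Γ(M, f ⁻¹ᵁ (V.ι ''ᵁ ⊤)) :=
    M.presheaf.map (eqToHom e).op
  have hψ : Function.Bijective ψ := ConcreteCategory.bijective_of_isIso _
  letI := Curves.GlobalSections.secModule Γ(Y, V.ι ''ᵁ ⊤) N
  let h0 := Curves.GlobalSections.h0Linear Γ(Y, V.ι ''ᵁ ⊤) N
  let L : Coh.HH W N 0 →ₗ[Γ(Y, V.ι ''ᵁ ⊤)] Γ((Scheme.Modules.pushforward f).obj M, V.ι ''ᵁ ⊤) :=
    { toFun := fun x => ψ (h0 x)
      map_add' := fun x y => by rw [map_add]; exact map_add _ _ _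
      map_smul' := fun a x => by
        rw [map_smul]
        change M.presheaf.map (eqToHom e).op
          ((Coh.toGlobal (W ↘ Spec (CommRingCat.of Γ(Y, V.ι ''ᵁ ⊤))) a : Γ(X, (f ⁻¹ᵁ V).ι ''ᵁ ⊤)) •
            (h0 x : Γ(M, (f ⁻¹ᵁ V).ι ''ᵁ ⊤))) =
          f.app (V.ι ''ᵁ ⊤) a • ψ (h0 x)
        refine (Scheme.Modules.map_smul M (eqToHom e) _ _).trans ?_
        refine congrArg (fun k : Γ(X, f ⁻¹ᵁ (V.ι ''ᵁ ⊤)) => k • ψ (h0 x)) ?_
        change X.presheaf.map (eqToHom e).op (((f ⁻¹ᵁ V).ι.appIso ⊤).inv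
          (Coh.toGlobal (W ↘ Spec (CommRingCat.of Γ(Y, V.ι ''ᵁ ⊤))) a)) = f.app (V.ι ''ᵁ ⊤) a
        rw [Scheme.Opens.ι_appIso]
        refine (congrArg (X.presheaf.map (eqToHom e).op) (toGlobal_struct f a)).trans ?_
        refine (congrArg (X.presheaf.map (eqToHom e).op)
          (ConcreteCategory.congr_hom (morphismRestrict_app f V ⊤) a)).trans ?_
        refine (ConcreteCategory.comp_apply _ _ _).symm.trans ?_
        exact ConcreteCategory.congr_hom ((Category.assoc _ _ _).trans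
          ((congrArg (f.app (V.ι ''ᵁ ⊤) ≫ ·) ((X.presheaf.map_comp _ _).symm.trans
            ((congrArg X.presheaf.map (Subsingleton.elim _ (𝟙 _))).trans (X.presheaf.map_id _)))).trans
              (Category.comp_id _))) a }
  exact ⟨LinearEquiv.ofBijective L (hψ.comp h0.bijective)⟩

variable [HasInjectiveResolutions X.Modules]

/-- Sections of `Rᵖ f_*` on an affine open are the cohomology of the preimage. -/
theorem nonempty_sections [IsAffine (V : Scheme.{u})] (M : X.Modules)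
    (hM : M.IsQuasicoherent) (p : ℕ) :
    letI : ((f ⁻¹ᵁ V : X.Opens) : Scheme.{u}).Over (Spec (CommRingCat.of Γ(Y, V.ι ''ᵁ ⊤))) :=
      ⟨struct f V⟩
    Nonempty (Coh.HH ((f ⁻¹ᵁ V : X.Opens) : Scheme.{u}) (M.restrict (f ⁻¹ᵁ V).ι) p
      ≃ₗ[Γ(Y, V.ι ''ᵁ ⊤)] Γ((Coh.Rpush f p).obj M, V.ι ''ᵁ ⊤)) := by
  cases p with
  | zero =>
    obtain ⟨L⟩ := nonempty_pushforward f (V := V) M
    haveI : PreservesLimitsOfSize.{0, 0} (Scheme.Modules.pushforward f) :=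
      (Scheme.Modules.pullbackPushforwardAdjunction f).rightAdjoint_preservesLimits
    haveI : PreservesFiniteLimits (Scheme.Modules.pushforward f) :=
      PreservesLimitsOfSize.preservesFiniteLimits _
    exact ⟨L.trans (secEquiv (asIso ((Scheme.Modules.pushforward f).toRightDerivedZero.app M)) _)⟩
  | succ p =>
    obtain ⟨L⟩ := nonempty_syzygy f (V := V) (injectiveResolution M) hM p
    obtain ⟨Φ⟩ := Syzygy.nonempty_rightDerived_iso (injectiveResolution M) f p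
    exact ⟨L.trans (secEquiv Φ.symm _)⟩

/-- The stalk of `Rᵖ f_*` is the cohomology of the local scheme. -/
theorem nonempty_stalk (F : X.Modules) (hF : F.IsQuasicoherent) (y : Y) (p : ℕ)
    (X₁ : Scheme.{u}) [X₁.Over (Spec (CommRingCat.of (Y.presheaf.stalk y)))] (g : X₁ ⟶ X)
    (hsq : IsPullback g (X₁ ↘ Spec (CommRingCat.of (Y.presheaf.stalk y))) f (Y.fromSpecStalk y)) :
    Nonempty (((Coh.Rpush f p).obj F).presheaf.stalk y ≃ₗ[Y.presheaf.stalk y]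
      Coh.HH X₁ ((Scheme.Modules.pullback g).obj F) p) := by
  obtain ⟨V, hV, hy, -⟩ := exists_isAffineOpen_mem_and_subset (U := ⊤) (x := y) trivial
  haveI : IsAffine (V : Scheme.{u}) := hV
  have hV' : IsAffineOpen (V.ι ''ᵁ ⊤) := V.ι_image_top.symm ▸ hV
  have hy' : y ∈ V.ι ''ᵁ ⊤ := V.ι_image_top.symm ▸ hy
  let W : Scheme.{u} := ((f ⁻¹ᵁ V : X.Opens) : Scheme.{u})
  letI : W.Over (Spec (CommRingCat.of Γ(Y, V.ι ''ᵁ ⊤))) := ⟨struct f V⟩
  letI := TopCat.Presheaf.algebra_section_stalk Y.presheaf (⟨y, hy'⟩ : V.ι ''ᵁ ⊤)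
  haveI := hV'.isLocalization_stalk ⟨y, hy'⟩
  haveI : Module.Flat Γ(Y, V.ι ''ᵁ ⊤) (Y.presheaf.stalk y) :=
    IsLocalization.flat (Y.presheaf.stalk y) (hV'.primeIdealOf ⟨y, hy'⟩).asIdeal.primeCompl
  haveI : QuasiCompact (struct f V) :=
    MorphismProperty.of_isPullback (isPullback_struct f hV hV') ‹QuasiCompact f›
  haveI : QuasiSeparated (struct f V) :=
    MorphismProperty.of_isPullback (isPullback_struct f hV hV') ‹QuasiSeparated f›
  haveI : CompactSpace W := QuasiCompact.compactSpace_of_compactSpace (struct f V)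
  haveI : QuasiSeparatedSpace W := quasiSeparatedSpace_of_quasiSeparated (struct f V)
  let c : Spec (CommRingCat.of (Y.presheaf.stalk y)) ⟶ Spec (CommRingCat.of Γ(Y, V.ι ''ᵁ ⊤)) :=
    Spec.map (CommRingCat.ofHom (algebraMap Γ(Y, V.ι ''ᵁ ⊤) (Y.presheaf.stalk y)))
  have hc : c ≫ hV'.fromSpec = Y.fromSpecStalk y := hV'.fromSpecStalk_eq_fromSpecStalk hy'
  have hP := isPullback_struct f hV hV'
  let g₁ : X₁ ⟶ W := hP.lift g ((X₁ ↘ Spec (CommRingCat.of (Y.presheaf.stalk y))) ≫ c)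
    (by rw [Category.assoc, hc, hsq.w])
  have h₁ : g₁ ≫ (f ⁻¹ᵁ V).ι = g := hP.lift_fst _ _ _
  have hsq₁ : IsPullback g₁ (X₁ ↘ Spec (CommRingCat.of (Y.presheaf.stalk y)))
      (W ↘ Spec (CommRingCat.of Γ(Y, V.ι ''ᵁ ⊤))) c :=
    IsPullback.of_right (by rw [h₁, hc]; exact hsq) (hP.lift_snd _ _ _) hP
  let N : W.Modules := F.restrict (f ⁻¹ᵁ V).ι
  haveI : Coh.IsQCoh N :=
    haveI := hF
    inferInstance
  obtain ⟨e₂⟩ := Groth.Agent.S0034.result Γ(Y, V.ι ''ᵁ ⊤) (Y.presheaf.stalk y) W X₁ g₁ hsq₁ N p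
  let j : (Scheme.Modules.pullback g₁).obj N ≅ (Scheme.Modules.pullback g).obj F :=
    (Scheme.Modules.pullback g₁).mapIso
        ((Scheme.Modules.restrictFunctorIsoPullback (f ⁻¹ᵁ V).ι).app F) ≪≫
      (Scheme.Modules.pullbackComp g₁ (f ⁻¹ᵁ V).ι).app F ≪≫
        (Scheme.Modules.pullbackCongr h₁).app F
  obtain ⟨e₁⟩ := nonempty_sections f (V := V) F hF p
  let G := (Coh.Rpush f p).obj F
  haveI : Coh.IsQCoh F := hF
  haveI : G.IsQuasicoherent := Groth.Agent.S0030.result f F p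
  letI := StalkLoc.Basic.moduleSections G hy'
  haveI := StalkLoc.Basic.isScalarTower_sections G hy'
  haveI := StalkLoc.Basic.isLocalizedModule_germ (M := G) hV' hy'
  have hbc : IsBaseChange (Y.presheaf.stalk y) (StalkLoc.Basic.germₗ G hy') :=
    IsLocalizedModule.isBaseChange (hV'.primeIdealOf ⟨y, hy'⟩).asIdeal.primeCompl _ _
  exact ⟨hbc.equiv.symm ≪≫ₗ
    TensorProduct.AlgebraTensorModule.congr (LinearEquiv.refl _ _) e₁.symm ≪≫ₗ e₂ ≪≫ₗ
      Curves.LES.isoK _ j p⟩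

end Groth.Agent.H84.FormalFun.Stalk
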