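import Groth.Agent.H84.FormalFun.KerTop
import Mathlib.Data.Finset.Image

/-!
# Formal functions for a coherent sheaf with finite cohomology

Only the cohomology of the sheaf itself is assumed to be finite; no properness is used.
-/

set_option linter.style.haveILetI false

universe u

open CategoryTheory Limits AlgebraicGeometry Opposite TopologicalSpace

namespace Groth.Agent.H84.FormalFun.FinCoh

open Groth.Agent.Lib Groth.Agent.H78.Formal.Sections Groth.Agent.Lib.Curves.LES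
open Groth.Agent.H78.FormalFun.Basic
open Groth.Agent.H78.FormalFun.Principal (B incl incl_π seq seq_shortExact H_incl δK_natural)
open Groth.Agent.H78.Formal.Principal (pr smulMod_mul mem_pow exists_eq)

set_option linter.unusedSectionVars false

variable {A : Type u} [CommRing A] {X : Scheme.{u}} [X.Over (Spec (CommRingCat.of A))]

/-- Classes dying on a deep reduction are divisible by a given power of `J`. -/
def K (M : X.Modules) (J : Ideal A) : Prop :=
  ∀ p m : ℕ, ∃ n : ℕ, ∀ x : Coh.HH X M p,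
    H (A := A) p (_root_.Formal.modPowπ J (n + 1) M) x = 0 →
      x ∈ J ^ m • (⊤ : Submodule A (Coh.HH X M p))

/-- Classes on a deep reduction lift to `M` on a given reduction. -/
def ML (M : X.Modules) (J : Ideal A) : Prop :=
  ∀ p m : ℕ, ∃ (n : ℕ) (h : m ≤ n),
    ∀ y : Coh.HH X (_root_.Formal.modPow J (n + 1) M) p, ∃ x : Coh.HH X M p,
      H (A := A) p (_root_.Formal.modPowπ J (m + 1) M) x =
        H (A := A) p (Formal2.modPowLE J (Nat.succ_le_succ h) M) y

theorem k_bot (M : X.Modules) : K M (⊥ : Ideal A) := fun p m =>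
  KerTop.k_bot (C := fun _ => True) M trivial p m

theorem ml_bot (M : X.Modules) : ML M (⊥ : Ideal A) := fun p m =>
  H78.FormalFun.MittagLeffler.ml_bot (C := fun _ => True) M trivial p m

/-- Increasing the depth in `K`. -/
lemma kills_mono (M : X.Modules) (J : Ideal A) {p n n' : ℕ} (h : n ≤ n') (x : Coh.HH X M p)
    (hx : H (A := A) p (_root_.Formal.modPowπ J (n' + 1) M) x = 0) :
    H (A := A) p (_root_.Formal.modPowπ J (n + 1) M) x = 0 := by
  rw [← Formal2.modPowπ_modPowLE J (Nat.succ_le_succ h) M, H_comp, hx, map_zero]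

/-- Divisible classes die on the reductions. -/
lemma kills_of_mem (M : X.Modules) (J : Ideal A) {p n : ℕ} (x : Coh.HH X M p)
    (hx : x ∈ J ^ (n + 1) • (⊤ : Submodule A (Coh.HH X M p))) :
    H (A := A) p (_root_.Formal.modPowπ J (n + 1) M) x = 0 := by
  refine Submodule.smul_induction_on hx (fun a ha w _ => ?_) (fun v w hv hw => by
    rw [map_add, hv, hw, add_zero])
  rw [← H_smulMod, ← H_comp, le_annHom_π J (n + 1) M ha, H_zero]

variable [IsNoetherian X] [IsNoetherianRing A] {M : X.Modules} (hM : Coh.IsCoh M)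
  (hfin : ∀ p, Module.Finite A (Coh.HH X M p)) {J : Ideal A}
include hM hfin

theorem k_step (g : A) (hK : K M J) (hML : ML M J) : K M (J ⊔ pr g) := by
  intro p m
  obtain ⟨n₂, hn₂⟩ := hK p m
  obtain ⟨N, hN, hlift⟩ := hML p n₂
  let Q := _root_.Formal.modPow J (N + 1) M
  obtain ⟨c, hc⟩ := exists_mono (isCoh_modPow J (N + 1) hM) g
  let q : M ⟶ _root_.Formal.modPow (pr g) (c + m + 1) Q :=
    _root_.Formal.modPowπ J (N + 1) M ≫ _root_.Formal.modPowπ (pr g) (c + m + 1) Q
  have hq : (J ⊔ pr g) ^ (N + (c + m + 1) + 1) ≤ annHom q := by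
    rw [show N + (c + m + 1) + 1 = (N + 1) + (c + m + 1) by omega]
    refine Ideal.sup_pow_add_le_pow_sup_pow.trans (sup_le ?_ ?_)
    · exact (le_annHom_π J (N + 1) M).trans (annHom_le_comp _ _)
    · exact (le_annHom_π (pr g) (c + m + 1) Q).trans (annHom_le_comp' _ _)
  obtain ⟨a, ha⟩ := exists_desc q hq
  refine ⟨N + (c + m + 1), fun x hx => ?_⟩
  have h1 : H (A := A) p (seq Q g c m).g (H (A := A) p (_root_.Formal.modPowπ J (N + 1) M) x) = 0 := by
    have h2 : H (A := A) p q x = 0 := by rw [← ha, H_comp, hx, map_zero]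
    rwa [H_comp] at h2
  obtain ⟨w, hw⟩ := (exactK₂ A (seq_shortExact Q g c m) p _).mp h1
  let v := H (A := A) p (Abelian.image.ι (_root_.Formal.smulMod A Q (g ^ (c + 1)))) w
  have hv : H (A := A) p (_root_.Formal.modPowπ J (N + 1) M) x = g ^ m • v :=
    hw.symm.trans (H_incl p m w)
  obtain ⟨u, hu⟩ := hlift v
  have h3 : H (A := A) p (_root_.Formal.modPowπ J (n₂ + 1) M) (x - g ^ m • u) = 0 := by
    rw [map_sub, map_smul, hu, ← Formal2.modPowπ_modPowLE J (Nat.succ_le_succ hN) M, H_comp, hv,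
      map_smul, sub_self]
  rw [← sub_add_cancel x (g ^ m • u)]
  exact add_mem (Submodule.smul_mono (Ideal.pow_right_mono le_sup_left m) le_rfl (hn₂ _ h3))
    (Submodule.smul_mono (Ideal.pow_right_mono le_sup_right m) le_rfl
      (Submodule.smul_mem_smul (mem_pow g) trivial))

theorem ml_step (g : A) (hK : K M J) (hML : ML M J) : ML M (J ⊔ pr g) := by
  intro p m
  obtain ⟨n₂, hmn₂, hlow⟩ := hML p m
  obtain ⟨n₃, hn₃⟩ := hK (p + 1) (n₂ + 1)
  obtain ⟨N, hN, hlift⟩ := hML (p + 1) (max n₃ n₂)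
  have hn₂N : n₂ ≤ N := (le_max_right _ _).trans hN
  haveI := hfin (p + 1)
  let P' := Coh.HH X M (p + 1) ⧸ J ^ (n₂ + 1) • (⊤ : Submodule A (Coh.HH X M (p + 1)))
  obtain ⟨d, hd⟩ := H78.FormalFun.MittagLeffler.exists_torsion_bound P' g
  let Q₂ := _root_.Formal.modPow J (n₂ + 1) M
  let Q := _root_.Formal.modPow J (N + 1) M
  let τ : Q ⟶ Q₂ := Formal2.modPowLE J (Nat.succ_le_succ hn₂N) M
  obtain ⟨c₂, hc₂⟩ := exists_mono (isCoh_modPow J (n₂ + 1) hM) g
  obtain ⟨c, hc⟩ := exists_mono (isCoh_modPow J (N + 1) hM) g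
  let L := c₂ + 1 + d + m
  let q : M ⟶ _root_.Formal.modPow (pr g) (c + L + 1) Q :=
    _root_.Formal.modPowπ J (N + 1) M ≫ _root_.Formal.modPowπ (pr g) (c + L + 1) Q
  have hq : (J ⊔ pr g) ^ (N + (c + L + 1) + 1) ≤ annHom q := by
    rw [show N + (c + L + 1) + 1 = (N + 1) + (c + L + 1) by omega]
    refine Ideal.sup_pow_add_le_pow_sup_pow.trans (sup_le ?_ ?_)
    · exact (le_annHom_π J (N + 1) M).trans (annHom_le_comp _ _)
    · exact (le_annHom_π (pr g) (c + L + 1) Q).trans (annHom_le_comp' _ _)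
  obtain ⟨a, ha⟩ := exists_desc q hq
  obtain ⟨b₀, hb₀⟩ := exists_desc (I := J) (n := m + 1)
    (_root_.Formal.modPowπ (J ⊔ pr g) (m + 1) M)
    ((Ideal.pow_right_mono le_sup_left (m + 1)).trans (le_annHom_π _ _ M))
  let b₁ : Q₂ ⟶ _root_.Formal.modPow (J ⊔ pr g) (m + 1) M :=
    Formal2.modPowLE J (Nat.succ_le_succ hmn₂) M ≫ b₀
  have hb₁ : _root_.Formal.modPowπ J (n₂ + 1) M ≫ b₁ = _root_.Formal.modPowπ (J ⊔ pr g) (m + 1) M := by
    rw [← Category.assoc, Formal2.modPowπ_modPowLE, hb₀]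
  obtain ⟨b, hb⟩ := exists_desc (I := pr g) (n := c₂ + m + 1) b₁ (by
    intro x hx
    rw [mem_annHom, ← cancel_epi (_root_.Formal.modPowπ J (n₂ + 1) M), comp_zero, ← Category.assoc,
      ← smulMod_comp, Category.assoc, hb₁]
    exact le_annHom_π _ _ M (Ideal.pow_le_pow_right (by omega) (Ideal.pow_right_mono le_sup_right _ hx)))
  -- comparison of the two sequences
  let τ₁ : B Q g c ⟶ B Q₂ g c₂ :=
    (Abelian.image.ι (_root_.Formal.smulMod A Q (g ^ (c + 1))) ≫ τ) ≫
      _root_.Formal.smulMod A Q₂ (g ^ d) ≫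
        Abelian.factorThruImage (_root_.Formal.smulMod A Q₂ (g ^ (c₂ + 1)))
  have h₁₂ : τ₁ ≫ incl Q₂ g c₂ m = incl Q g c L ≫ τ := by
    simp only [τ₁, Category.assoc]
    rw [H78.FormalFun.Principal.fac_incl, ← smulMod_mul, ← pow_add, ← smulMod_comp, ← Category.assoc,
      ← smulMod_comp, show d + (c₂ + m + 1) = L by omega]
    rfl
  obtain ⟨τ₃, hτ₃⟩ := exists_desc (I := pr g) (n := c + L + 1)
    (τ ≫ _root_.Formal.modPowπ (pr g) (c₂ + m + 1) Q₂) (by
      refine le_trans ?_ (annHom_le_comp' _ _)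
      exact (Ideal.pow_le_pow_right (by omega)).trans (le_annHom_π (pr g) (c₂ + m + 1) Q₂))
  let φ : seq Q g c L ⟶ seq Q₂ g c₂ m :=
    { τ₁ := τ₁, τ₂ := τ, τ₃ := τ₃, comm₁₂ := h₁₂, comm₂₃ := hτ₃.symm }
  refine ⟨N + (c + L + 1), by omega, fun y => ?_⟩
  let y' : Coh.HH X (_root_.Formal.modPow (pr g) (c + L + 1) Q) p := H (A := A) p a y
  let w : Coh.HH X (B Q g c) (p + 1) := δK A (seq_shortExact Q g c L) p (p + 1) rfl y'
  let v := H (A := A) (p + 1) (Abelian.image.ι (_root_.Formal.smulMod A Q (g ^ (c + 1)))) w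
  have hv : g ^ L • v = 0 := by
    have h := (exactK₁ A (seq_shortExact Q g c L) p (p + 1) rfl).apply_apply_eq_zero y'
    exact ((H_incl (p + 1) L w).symm).trans h
  obtain ⟨u, hu⟩ := hlift v
  have hu₂ : H (A := A) (p + 1) (_root_.Formal.modPowπ J (n₂ + 1) M) u = H (A := A) (p + 1) τ v := by
    rw [← Formal2.modPowπ_modPowLE J (Nat.succ_le_succ (le_max_right n₃ n₂)) M, H_comp, hu, ← H_comp]
    refine congrArg (fun φ => H (A := A) (p + 1) φ v) ?_
    rw [← cancel_epi (_root_.Formal.modPowπ J (N + 1) M)]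
    simp only [τ, ← Category.assoc, Formal2.modPowπ_modPowLE]
  have hu₀ : g ^ L • u ∈ J ^ (n₂ + 1) • (⊤ : Submodule A (Coh.HH X M (p + 1))) := by
    refine hn₃ _ (kills_mono M J (le_max_left n₃ n₂) _ ?_)
    rw [map_smul, hu, ← map_smul, hv, map_zero]
  have hu₁ : g ^ d • u ∈ J ^ (n₂ + 1) • (⊤ : Submodule A (Coh.HH X M (p + 1))) := by
    have h := hd L (Submodule.Quotient.mk u)
      (by rw [← Submodule.Quotient.mk_smul, Submodule.Quotient.mk_eq_zero]; exact hu₀)
    rwa [← Submodule.Quotient.mk_smul, Submodule.Quotient.mk_eq_zero] at h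
  have hτw : H (A := A) (p + 1) τ₁ w = 0 := by
    have h0 : g ^ d • H (A := A) (p + 1) τ v = 0 := by
      rw [← hu₂, ← map_smul]
      exact kills_of_mem M J _ hu₁
    simp only [τ₁]
    rw [H_comp, H_comp, H_comp, H_smulMod]
    exact (congrArg _ h0).trans (map_zero _)
  have hδ : δK A (seq_shortExact Q₂ g c₂ m) p (p + 1) rfl (H (A := A) p φ.τ₃ y') = 0 :=
    (δK_natural (A := A) (seq_shortExact Q g c L) (seq_shortExact Q₂ g c₂ m) φ p (p + 1) rfl y').trans
      hτw
  obtain ⟨z, hz⟩ : ∃ z : Coh.HH X Q₂ p,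
      H (A := A) p (seq Q₂ g c₂ m).g z = H (A := A) p τ₃ y' :=
    (exactK₃ A (seq_shortExact Q₂ g c₂ m) p (p + 1) rfl _).mp hδ
  have hz' : H (A := A) p (_root_.Formal.modPowπ (pr g) (c₂ + m + 1) Q₂) z = H (A := A) p τ₃ y' := hz
  obtain ⟨x, hx⟩ := hlow z
  refine ⟨x, ?_⟩
  rw [← hb₀, H_comp, hx, ← H_comp]
  change H (A := A) p b₁ z = _
  rw [← hb, H_comp, hz', ← H_comp, ← H_comp]
  refine congrArg (fun φ => H (A := A) p φ y) ?_
  rw [← cancel_epi (_root_.Formal.modPowπ (J ⊔ pr g) (N + (c + L + 1) + 1) M), Formal2.modPowπ_modPowLE,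
    ← Category.assoc, ha]
  simp only [q, Category.assoc]
  rw [← Category.assoc (_root_.Formal.modPowπ (pr g) (c + L + 1) Q), hτ₃, Category.assoc, hb,
    ← Category.assoc, Formal2.modPowπ_modPowLE, hb₁]

theorem k_and_ml (J : Ideal A) : K M J ∧ ML M J := by
  obtain ⟨s, rfl⟩ := IsNoetherian.noetherian J
  classical
  induction s using Finset.induction_on with
  | empty => rw [Finset.coe_empty, Submodule.span_empty]; exact ⟨k_bot M, ml_bot M⟩
  | insert g s _ ih =>
    rw [Finset.coe_insert, Submodule.span_insert, sup_comm]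
    exact ⟨k_step hM hfin g ih.1 ih.2, ml_step hM hfin g ih.1 ih.2⟩

end Groth.Agent.H84.FormalFun.FinCoh
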