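import Groth.Agent.H84.FormalFun.FinCoh

/-!
# Completion of cohomology and vanishing of `lim¹` for a sheaf with finite cohomology
-/

set_option linter.style.haveILetI false
set_option linter.unusedSectionVars false

universe u

open CategoryTheory Limits AlgebraicGeometry Opposite TopologicalSpace

namespace Groth.Agent.H84.FormalFun.FinCohLim

open Groth.Agent.Lib Groth.Agent.H78.Formal.Sections Groth.Agent.Lib.Curves.LES
open Groth.Agent.H78.FormalFun.Basic
open Groth.Agent.H84.FormalFun.FinCoh

variable {A : Type u} [CommRing A] {X : Scheme.{u}} [X.Over (Spec (CommRingCat.of A))]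
  [IsNoetherian X] [IsNoetherianRing A] {M : X.Modules} (hM : Coh.IsCoh M)
  (hfin : ∀ p, Module.Finite A (Coh.HH X M p))
include hM hfin

/-- The completion of cohomology is the limit of the cohomology of the reductions. -/
theorem exists_equiv (I : Ideal A) (p : ℕ) :
    ∃ e : AdicCompletion I (Coh.HH X M p) ≃+ _root_.Formal.HHlim I M p,
      ∀ (x : AdicCompletion I (Coh.HH X M p)) (n : ℕ) (h : Coh.HH X M p),
        AdicCompletion.eval I (Coh.HH X M p) (n + 1) x = Submodule.Quotient.mk h →
          (e x : ∀ n, _root_.Formal.HHmodPow I M p n) n = _root_.Formal.toHHmodPow I M p n h := by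
  let P := Coh.HH X M p
  let rep : AdicCompletion I P → ℕ → P := fun x m =>
    (Submodule.mkQ_surjective _ (x.val m)).choose
  have hrep : ∀ x m, Submodule.Quotient.mk (rep x m) = x.val m := fun x m =>
    (Submodule.mkQ_surjective _ (x.val m)).choose_spec
  have hmem : ∀ (x : AdicCompletion I P) (m n : ℕ), m ≤ n →
      rep x n - rep x m ∈ I ^ m • (⊤ : Submodule A P) := fun x m n hmn => by
    rw [← Submodule.Quotient.eq]
    refine Eq.trans ?_ (hrep x m).symm
    rw [← x.property hmn, ← hrep x n]
    rfl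
  let T : AdicCompletion I P → ∀ n, _root_.Formal.HHmodPow I M p n := fun x n =>
    _root_.Formal.toHHmodPow I M p n (rep x (n + 1))
  have hT : ∀ x n h, x.val (n + 1) = Submodule.Quotient.mk h →
      T x n = _root_.Formal.toHHmodPow I M p n h := fun x n h hh =>
    KerTop.toHHmodPow_eq_of_mem I M p (by rw [← Submodule.Quotient.eq, hrep, hh])
  have hTc : ∀ x, T x ∈ _root_.Formal.HHlim I M p := fun x n => by
    change _root_.Formal.HHmodPowTrans I M p n (_root_.Formal.toHHmodPow I M p (n + 1) (rep x (n + 1 + 1))) =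
      _root_.Formal.toHHmodPow I M p n (rep x (n + 1))
    rw [← KerTop.toHHmodPow_eq_of_mem I M p (hmem x (n + 1) (n + 1 + 1) (Nat.le_succ _))]
    exact ((_root_.Formal.toHHlim I M p (rep x (n + 1 + 1))).2 n)
  let β : AdicCompletion I P →+ _root_.Formal.HHlim I M p :=
    { toFun := fun x => ⟨T x, hTc x⟩
      map_zero' := Subtype.ext (funext fun n => by
        change T 0 n = 0
        rw [hT 0 n 0 (AdicCompletion.val_zero_apply I P (n + 1)), map_zero])
      map_add' := fun x y => Subtype.ext (funext fun n => by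
        change T (x + y) n = T x n + T y n
        rw [hT (x + y) n (rep x (n + 1) + rep y (n + 1))
          (by rw [Submodule.Quotient.mk_add, hrep, hrep]; rfl), map_add]) }
  have hlevel : ∀ {y : ∀ n, _root_.Formal.HHmodPow I M p n}, y ∈ _root_.Formal.HHlim I M p →
      ∀ (i j : ℕ) (h : i ≤ j),
        H (A := A) p (Formal2.modPowLE I (Nat.succ_le_succ h) M) (y j) = y i := by
    intro y hy i j hij
    induction hij with
    | refl =>
      rw [H78.FormalFun.MittagLeffler.modPowLE_refl]
      exact LinearMap.congr_fun (mapK_id A _ p) _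
    | @step j hij ih =>
      have hfac : _root_.Formal.modPowTrans I (j + 1) M ≫ Formal2.modPowLE I (Nat.succ_le_succ hij) M =
          Formal2.modPowLE I (Nat.succ_le_succ (Nat.le.step hij)) M := by
        rw [← cancel_epi (_root_.Formal.modPowπ I (j + 1 + 1) M), ← Category.assoc,
          _root_.Formal.modPowπ_trans, Formal2.modPowπ_modPowLE, Formal2.modPowπ_modPowLE]
      rw [← hfac, H_comp]
      exact (congrArg _ (hy j)).trans ih
  have htop : ∀ (i j : ℕ) (h : i ≤ j) (x : P),
      H (A := A) p (Formal2.modPowLE I (Nat.succ_le_succ h) M) (_root_.Formal.toHHmodPow I M p j x) =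
        _root_.Formal.toHHmodPow I M p i x := fun i j h x =>
    hlevel (_root_.Formal.toHHlim I M p x).2 i j h
  have hinj : Function.Injective β := by
    refine (injective_iff_map_eq_zero β).2 fun x hx => AdicCompletion.ext fun m => ?_
    obtain ⟨n, hn⟩ := (k_and_ml hM hfin I).1 p m
    have h1 : _root_.Formal.toHHmodPow I M p n (rep x (max m (n + 1))) = 0 := by
      rw [KerTop.toHHmodPow_eq_of_mem I M p (hmem x (n + 1) (max m (n + 1)) (le_max_right _ _))]
      exact congrFun (congrArg Subtype.val hx) n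
    rw [← hrep x m, AdicCompletion.val_zero_apply, Submodule.Quotient.mk_eq_zero]
    rw [← sub_sub_cancel (rep x (max m (n + 1))) (rep x m)]
    exact sub_mem (hn _ h1) (hmem x m (max m (n + 1)) (le_max_left _ _))
  have hsurj : Function.Surjective β := by
    intro y
    have hlift : ∀ i, ∃ h : P, _root_.Formal.toHHmodPow I M p i h = y.1 i := fun i => by
      obtain ⟨n, hin, hn⟩ := (k_and_ml hM hfin I).2 p i
      obtain ⟨h, hh⟩ := hn (y.1 n)
      exact ⟨h, hh.trans (hlevel y.2 i n hin)⟩
    choose g hg using hlift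
    choose κ hκ using fun m => (k_and_ml hM hfin I).1 p m
    let ν : ℕ → ℕ := fun m => (Finset.range (m + 1)).sup κ + m
    have hν : ∀ m, κ m ≤ ν m := fun m =>
      (Finset.le_sup (Finset.self_mem_range_succ m)).trans (Nat.le_add_right _ _)
    have hνm : Monotone ν := fun a b hab => Nat.add_le_add
      (Finset.sup_mono (Finset.range_mono (Nat.succ_le_succ hab))) hab
    have hmemg : ∀ m j, κ m ≤ j → ∀ h, _root_.Formal.toHHmodPow I M p j h = y.1 j →
        ∀ j', κ m ≤ j' → ∀ h', _root_.Formal.toHHmodPow I M p j' h' = y.1 j' →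
        h - h' ∈ I ^ m • (⊤ : Submodule A P) := by
      intro m j hj h hh j' hj' h' hh'
      refine hκ m (h - h') ?_
      change _root_.Formal.toHHmodPow I M p (κ m) (h - h') = 0
      rw [map_sub, ← htop _ _ hj h, ← htop _ _ hj' h', hh, hh', hlevel y.2 _ _ hj, hlevel y.2 _ _ hj',
        sub_self]
    refine ⟨⟨fun m => Submodule.Quotient.mk (g (ν m)), fun {m n} hmn => ?_⟩, ?_⟩
    · exact (Submodule.Quotient.eq _).2
        (hmemg m _ ((hν m).trans (hνm hmn)) _ (hg _) _ (hν m) _ (hg _))
    · refine Subtype.ext (funext fun i => ?_)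
      refine (hT _ i (g (ν (i + 1))) rfl).trans ?_
      rw [← htop i (ν (i + 1)) ((Nat.le_succ i).trans (Nat.le_add_left _ _)), hg]
      exact hlevel y.2 _ _ ((Nat.le_succ i).trans (Nat.le_add_left _ _))
  exact ⟨AddEquiv.ofBijective β ⟨hinj, hsurj⟩, fun x n h hh => hT x n h hh⟩

theorem limOne_subsingleton (I : Ideal A) (p : ℕ) :
    Subsingleton (Formal2.limOne (fun n => _root_.Formal.HHmodPow I M p n)
      (fun n => _root_.Formal.HHmodPowTrans I M p n)) := by
  let G := fun n => _root_.Formal.HHmodPow I M p n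
  let t : ∀ n, G (n + 1) →+ G n := fun n => _root_.Formal.HHmodPowTrans I M p n
  let R : ∀ n, AddSubgroup (G n) := fun n => (_root_.Formal.toHHmodPow I M p n).range
  choose κ hκ₀ hκ using fun n => (k_and_ml hM hfin I).2 p n
  let T : ∀ n j, G j → G n := fun n j y =>
    if h : n ≤ j then H (A := A) p (Formal2.modPowLE I (Nat.succ_le_succ h) M) y else 0
  have hTt : ∀ n j, n + 1 ≤ j → ∀ y, t n (T (n + 1) j y) = T n j y := by
    intro n j hj y
    simp only [T, dif_pos hj, dif_pos ((Nat.le_succ n).trans hj)]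
    change H (A := A) p (_root_.Formal.modPowTrans I (n + 1) M)
      (H (A := A) p (Formal2.modPowLE I (Nat.succ_le_succ hj) M) y) = _
    rw [← H_comp]
    refine congrArg (fun φ => H (A := A) p φ y) ?_
    rw [← cancel_epi (_root_.Formal.modPowπ I (j + 1) M), ← Category.assoc,
      Formal2.modPowπ_modPowLE, Formal2.modPowπ_modPowLE, _root_.Formal.modPowπ_trans]
  have hTR : ∀ n j, κ n ≤ j → ∀ y, T n j y ∈ R n := by
    intro n j hj y
    have hnj : n ≤ j := (hκ₀ n).trans hj
    obtain ⟨x, hx⟩ := hκ n (H (A := A) p (Formal2.modPowLE I (Nat.succ_le_succ hj) M) y)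
    refine ⟨x, ?_⟩
    simp only [T, dif_pos hnj]
    refine (hx : _root_.Formal.toHHmodPow I M p n x = _).trans ?_
    rw [← H_comp]
    refine congrArg (fun φ => H (A := A) p φ y) ?_
    rw [← cancel_epi (_root_.Formal.modPowπ I (j + 1) M), ← Category.assoc,
      Formal2.modPowπ_modPowLE, Formal2.modPowπ_modPowLE, Formal2.modPowπ_modPowLE]
  have hTn : ∀ n y, T n n y = y := by
    intro n y
    simp only [T, dif_pos le_rfl]
    rw [H78.FormalFun.MittagLeffler.modPowLE_refl]
    exact LinearMap.congr_fun (mapK_id A _ p) _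
  refine ⟨fun a b => ?_⟩
  suffices h : ∀ c : ∀ n, G n, c ∈ (Formal2.towerDiff G t).range by
    obtain ⟨a, rfl⟩ := QuotientAddGroup.mk_surjective a
    obtain ⟨b, rfl⟩ := QuotientAddGroup.mk_surjective b
    exact QuotientAddGroup.eq.2 (h _)
  intro c
  let ν : ℕ → ℕ := fun m => (Finset.range (m + 1)).sup κ + m + 1
  have hν : ∀ m, κ m ≤ ν m := fun m =>
    ((Finset.le_sup (Finset.self_mem_range_succ m)).trans (Nat.le_add_right _ _)).trans (Nat.le_succ _)
  have hνm : Monotone ν := fun a b hab => Nat.succ_le_succ (Nat.add_le_add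
    (Finset.sup_mono (Finset.range_mono (Nat.succ_le_succ hab))) hab)
  have hνlt : ∀ m, m < ν m := fun m => Nat.lt_succ_of_le (Nat.le_add_left _ _)
  let x : ∀ n, G n := fun n => ∑ j ∈ Finset.Ico n (ν n), T n j (c j)
  have hres : ∀ n, ∃ h : Coh.HH X M p,
      _root_.Formal.toHHmodPow I M p n h = c n - (x n - t n (x (n + 1))) := by
    intro n
    have h1 : t n (x (n + 1)) = ∑ j ∈ Finset.Ico (n + 1) (ν (n + 1)), T n j (c j) := by
      rw [map_sum]
      exact Finset.sum_congr rfl fun j hj => hTt n j (Finset.mem_Ico.1 hj).1 _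
    have h2 : x n = c n + ∑ j ∈ Finset.Ico (n + 1) (ν n), T n j (c j) := by
      simp only [x]
      rw [Finset.sum_eq_sum_Ico_succ_bot (hνlt n), hTn]
    have h3 : ∑ j ∈ Finset.Ico (n + 1) (ν (n + 1)), T n j (c j) =
        ∑ j ∈ Finset.Ico (n + 1) (ν n), T n j (c j) +
          ∑ j ∈ Finset.Ico (ν n) (ν (n + 1)), T n j (c j) :=
      (Finset.sum_Ico_consecutive _ (hνlt n) (hνm (Nat.le_succ n))).symm
    have h4 : ∑ j ∈ Finset.Ico (ν n) (ν (n + 1)), T n j (c j) ∈ R n :=
      sum_mem fun j hj => hTR n j ((hν n).trans (Finset.mem_Ico.1 hj).1) _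
    rw [h1, h2, h3, show c n - (c n + ∑ j ∈ Finset.Ico (n + 1) (ν n), T n j (c j) -
        (∑ j ∈ Finset.Ico (n + 1) (ν n), T n j (c j) +
          ∑ j ∈ Finset.Ico (ν n) (ν (n + 1)), T n j (c j))) =
        ∑ j ∈ Finset.Ico (ν n) (ν (n + 1)), T n j (c j) by abel]
    exact h4
  choose h hh using hres
  let π := fun n => _root_.Formal.toHHmodPow I M p n
  refine ⟨fun n => x n + π n (-∑ j ∈ Finset.range n, h j), funext fun n => ?_⟩
  change x n + π n (-∑ j ∈ Finset.range n, h j) -
    t n (x (n + 1) + π (n + 1) (-∑ j ∈ Finset.range (n + 1), h j)) = c n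
  have ht : ∀ v, t n (π (n + 1) v) = π n v := fun v => (_root_.Formal.toHHlim I M p v).2 n
  rw [map_add, ht, Finset.sum_range_succ, map_neg, map_neg, map_add]
  simp only [π, hh]
  abel

end Groth.Agent.H84.FormalFun.FinCohLim
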