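import Groth.Agent.Lib.Exchange.Main
import Groth.Agent.H78.Formal.Sections
import Groth.Agent.Lib.ClSub.Basis

/-!
# `F ⊗ A/Iⁿ` is the reduction of `F`
-/

set_option linter.style.haveILetI false

universe u

open CategoryTheory Limits AlgebraicGeometry TopologicalSpace Opposite
open scoped TensorProduct

namespace Groth.Agent.H84.FormalFun.TensorQuot

open Groth.Agent.Lib Groth.Agent.H78.Formal.Sections
open ZarCoh.Exchange ZarCoh.Exchange.Sections

noncomputable section

variable {A : Type u} [CommRing A] {X : Scheme.{u}} [X.Over (Spec (CommRingCat.of A))]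

/-- The projection of `A` onto a quotient, as a morphism of modules. -/
abbrev mkq (J : Ideal A) : ModuleCat.of A A ⟶ ModuleCat.of A (A ⧸ J) :=
  ModuleCat.ofHom (Submodule.mkQ J)

theorem G_map_smul' (F : X.Modules) (M : ModuleCat.{u} A) (a : A) :
    (CohIII.tensorAFunctor A F).map (a • 𝟙 M) = _root_.Formal.smulMod A (G F M) a :=
  ZarCoh.Exchange.Linear.G_map_smul F M a

theorem exists_iso (I : Ideal A) (n : ℕ) (F : X.Modules) [F.IsQuasicoherent] :
    ∃ ψ : _root_.Formal.modPow I n F ≅ G F (ModuleCat.of A (A ⧸ I ^ n)),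
      _root_.Formal.modPowπ I n F ≫ ψ.hom =
        (ZarCoh.Exchange.Main.oneIso A F).inv ≫ (CohIII.tensorAFunctor A F).map (mkq (I ^ n)) := by
  let T := CohIII.tensorAFunctor A F
  let o := ZarCoh.Exchange.Main.oneIso A F
  let r : F ⟶ G F (ModuleCat.of A (A ⧸ I ^ n)) := o.inv ≫ T.map (mkq (I ^ n))
  have hr : ∀ a ∈ I ^ n, _root_.Formal.smulMod A F a ≫ r = 0 := by
    intro a ha
    have h0 : mkq (I ^ n) ≫ (a • 𝟙 (ModuleCat.of A (A ⧸ I ^ n))) =
        mkq (I ^ n) ≫ ((0 : A) • 𝟙 (ModuleCat.of A (A ⧸ I ^ n))) := by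
      refine ModuleCat.hom_ext (LinearMap.ext fun x => ?_)
      change a • Submodule.Quotient.mk x = (0 : A) • Submodule.Quotient.mk (p := I ^ n) x
      rw [zero_smul, ← Submodule.Quotient.mk_smul, Submodule.Quotient.mk_eq_zero]
      exact (I ^ n).mul_mem_right x ha
    rw [smulMod_comp, Category.assoc, ← G_map_smul', ← Functor.map_comp, h0, Functor.map_comp,
      G_map_smul', show _root_.Formal.smulMod A (G F (ModuleCat.of A (A ⧸ I ^ n))) (0 : A) = 0 from
        Scheme.Modules.hom_ext _ _ fun U => ConcreteCategory.ext_apply fun s => by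
          rw [smulMod_app, map_zero, zero_smul]; rfl, comp_zero, comp_zero]
  let c : _root_.Formal.modPow I n F ⟶ G F (ModuleCat.of A (A ⧸ I ^ n)) :=
    cokernel.desc _ r (by
      apply Sigma.hom_ext
      intro a
      rw [comp_zero, _root_.Formal.smulFamily, Sigma.ι_desc_assoc]
      exact hr a.1 a.2)
  have hc : _root_.Formal.modPowπ I n F ≫ c = r := cokernel.π_desc _ _ _
  have hbij : ∀ U : X.affineOpens, Function.Bijective (c.app U.1) := by
    intro U
    let pX := X ↘ Spec (CommRingCat.of A)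
    constructor
    · refine (injective_iff_map_eq_zero _).2 fun s hs => ?_
      obtain ⟨t, rfl⟩ := modPowπ_surjective I n U.2 s
      have ht : r.app U.1 t = 0 := by rw [← hc]; exact hs
      obtain ⟨z, hz⟩ := (bijective_psi F U.2 (ModuleCat.of A A)).2
        (CechRes.Sec.toSec pX (o.inv.app U.1 t))
      have hz0 : (mkq (I ^ n)).hom.lTensor _ z = 0 := by
        refine (bijective_psi F U.2 (ModuleCat.of A (A ⧸ I ^ n))).1 ?_
        rw [← psi_natural, hz, map_zero]
        exact ht
      obtain ⟨w, rfl⟩ := (lTensor_exact ((CechRes.Sec.secA pX U.1).obj F)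
        (LinearMap.exact_subtype_mkQ (I ^ n)) (Submodule.mkQ_surjective _) z).1 hz0
      let P : Submodule Γ(X, U.1) Γ(F, U.1) := sIdeal I U.1 ^ n • ⊤
      have key : ∀ w, (o.hom.app U.1 (CechRes.Sec.ofSec pX
          (psi F U.1 (ModuleCat.of A A) ((I ^ n).subtype.lTensor _ w))) : Γ(F, U.1)) ∈ P := by
        intro w
        induction w using TensorProduct.induction_on with
        | zero =>
          rw [map_zero, map_zero]
          exact (map_zero (o.hom.app U.1).hom).symm ▸ zero_mem P
        | tmul x a =>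
          obtain ⟨a, ha⟩ := a
          let e₁ : Γ(G F (ModuleCat.of A A), U.1) :=
            CechRes.Sec.ofSec pX (psi F U.1 (ModuleCat.of A A) (x ⊗ₜ (1 : A)))
          have h1 : CechRes.Sec.ofSec pX
              (psi F U.1 (ModuleCat.of A A) ((I ^ n).subtype.lTensor _ (x ⊗ₜ ⟨a, ha⟩))) =
              sMap A U.1 a • e₁ := by
            have h2 := psi_natural F U.1 (a • 𝟙 (ModuleCat.of A A)) (x ⊗ₜ (1 : A))
            rw [G_map_smul'] at h2
            refine Eq.trans ?_ h2.symm
            rw [LinearMap.lTensor_tmul, LinearMap.lTensor_tmul]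
            refine congrArg (fun y : A => psi F U.1 (ModuleCat.of A A) (x ⊗ₜ[A] y)) ?_
            exact (mul_one a).symm
          rw [h1, Scheme.Modules.Hom.app_smul]
          change _ ∈ sIdeal I U.1 ^ n • (⊤ : Submodule Γ(X, U.1) Γ(F, U.1))
          rw [← sIdeal_pow]
          exact Submodule.smul_mem_smul (mem_sIdeal ha) trivial
        | add a b ha hb =>
          rw [map_add, map_add]
          exact (map_add (o.hom.app U.1).hom _ _).symm ▸ add_mem ha hb
      have h3 := key w
      rw [hz] at h3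
      refine (modPowπ_eq_zero_iff I n U.2 t).2 ?_
      have h4 : o.hom.app U.1 (o.inv.app U.1 t) = t :=
        congrArg (fun φ : F ⟶ F => φ.app U.1 t) o.inv_hom_id
      rw [← h4]
      exact h3
    · intro y
      obtain ⟨z, hz⟩ := (bijective_psi F U.2 (ModuleCat.of A (A ⧸ I ^ n))).2 (CechRes.Sec.toSec pX y)
      obtain ⟨z, rfl⟩ := LinearMap.lTensor_surjective _ (Submodule.mkQ_surjective (I ^ n)) z
      refine ⟨(_root_.Formal.modPowπ I n F).app U.1
        (o.hom.app U.1 (CechRes.Sec.ofSec pX (psi F U.1 (ModuleCat.of A A) z))), ?_⟩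
      change (_root_.Formal.modPowπ I n F ≫ c).app U.1 _ = y
      rw [hc]
      change (T.map (mkq (I ^ n))).app U.1 (o.inv.app U.1 (o.hom.app U.1 _)) = y
      have h4 : ∀ v, o.inv.app U.1 (o.hom.app U.1 v) = v := fun v =>
        congrArg (fun φ : G F (ModuleCat.of A A) ⟶ G F (ModuleCat.of A A) => φ.app U.1 v) o.hom_inv_id
      rw [h4]
      exact ((psi_natural F U.1 (mkq (I ^ n)) z).trans hz :)
  haveI : IsIso c := ClSub.Basis.isIso_of_bijective_affine c hbij
  exact ⟨asIso c, hc⟩

end

end Groth.Agent.H84.FormalFun.TensorQuot
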